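/-!
Sparse matrices over the field with five elements for the root elements of the rank two subsystems
in the double cover of `F₄(2)`: for each row the list of its nonzero entries.
-/

set_option autoImplicit false

namespace CfsgLib.F4TwoCover13

/-- The lift of the root element 13. -/
def mat13 : List (List (Nat × Nat)) :=
  [[(0, 3), (9, 3), (26, 3), (28, 2)], [(1, 3), (6, 3), (36, 4), (38, 1)],
   [(2, 3), (5, 3), (8, 2), (11, 3)], [(3, 3), (4, 3), (12, 3), (15, 2)],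
   [(3, 3), (4, 3), (12, 2), (15, 3)], [(2, 3), (5, 3), (8, 3), (11, 2)],
   [(1, 3), (6, 3), (36, 1), (38, 4)], [(7, 3), (13, 3), (27, 3), (29, 2)],
   [(2, 2), (5, 3), (8, 3), (11, 3)], [(0, 3), (9, 3), (26, 2), (28, 3)],
   [(10, 3), (14, 3), (37, 3), (39, 2)], [(2, 3), (5, 2), (8, 3), (11, 3)],
   [(3, 3), (4, 2), (12, 3), (15, 3)], [(7, 3), (13, 3), (27, 2), (29, 3)],
   [(10, 3), (14, 3), (37, 2), (39, 3)], [(3, 2), (4, 3), (12, 3), (15, 3)], [(16, 1)],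
   [(17, 3), (31, 3), (41, 3), (47, 2)], [(18, 3), (32, 3), (42, 3), (48, 2)],
   [(23, 3), (33, 3), (43, 3), (49, 3)], [(23, 3), (33, 3), (43, 2), (49, 2)],
   [(23, 3), (33, 2), (43, 3), (49, 2)], [(23, 3), (33, 2), (43, 2), (49, 3)],
   [(19, 3), (20, 3), (21, 3), (22, 3)], [(25, 3), (35, 3), (45, 3), (51, 2)],
   [(24, 3), (34, 3), (44, 3), (50, 2)], [(0, 3), (9, 2), (26, 3), (28, 3)],
   [(7, 3), (13, 2), (27, 3), (29, 3)], [(0, 2), (9, 3), (26, 3), (28, 3)],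
   [(7, 2), (13, 3), (27, 3), (29, 3)], [(30, 1)], [(17, 3), (31, 3), (41, 2), (47, 3)],
   [(18, 3), (32, 3), (42, 2), (48, 3)], [(19, 3), (20, 3), (21, 2), (22, 2)],
   [(25, 3), (35, 3), (45, 2), (51, 3)], [(24, 3), (34, 3), (44, 2), (50, 3)],
   [(1, 1), (6, 4), (36, 3), (38, 3)], [(10, 3), (14, 2), (37, 3), (39, 3)],
   [(1, 4), (6, 1), (36, 3), (38, 3)], [(10, 2), (14, 3), (37, 3), (39, 3)], [(40, 1)],
   [(17, 3), (31, 2), (41, 3), (47, 3)], [(18, 3), (32, 2), (42, 3), (48, 3)],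
   [(19, 3), (20, 2), (21, 3), (22, 2)], [(25, 3), (35, 2), (45, 3), (51, 3)],
   [(24, 3), (34, 2), (44, 3), (50, 3)], [(46, 1)], [(17, 2), (31, 3), (41, 3), (47, 3)],
   [(18, 2), (32, 3), (42, 3), (48, 3)], [(19, 3), (20, 2), (21, 2), (22, 3)],
   [(25, 2), (35, 3), (45, 3), (51, 3)], [(24, 2), (34, 3), (44, 3), (50, 3)]]

/-- The lift of the root element 14. -/
def mat14 : List (List (Nat × Nat)) :=
  [[(0, 3), (7, 3), (9, 3), (13, 2)], [(1, 3), (6, 3), (10, 4), (14, 1)],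
   [(2, 3), (4, 3), (11, 3), (15, 2)], [(3, 3), (5, 3), (8, 2), (12, 3)],
   [(2, 3), (4, 3), (11, 2), (15, 3)], [(3, 3), (5, 3), (8, 3), (12, 2)],
   [(1, 3), (6, 3), (10, 1), (14, 4)], [(0, 3), (7, 3), (9, 2), (13, 3)],
   [(3, 2), (5, 3), (8, 3), (12, 3)], [(0, 3), (7, 2), (9, 3), (13, 3)],
   [(1, 1), (6, 4), (10, 3), (14, 3)], [(2, 3), (4, 2), (11, 3), (15, 3)],
   [(3, 3), (5, 2), (8, 3), (12, 3)], [(0, 2), (7, 3), (9, 3), (13, 3)],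
   [(1, 4), (6, 1), (10, 3), (14, 3)], [(2, 2), (4, 3), (11, 3), (15, 3)], [(16, 1)], [(18, 1)],
   [(17, 1)], [(19, 3), (20, 3), (21, 3), (22, 2)], [(19, 3), (20, 3), (21, 2), (22, 3)],
   [(19, 3), (20, 2), (21, 3), (22, 3)], [(19, 2), (20, 3), (21, 3), (22, 3)], [(23, 1)], [(25, 1)],
   [(24, 1)], [(26, 3), (27, 3), (28, 3), (29, 2)], [(26, 3), (27, 3), (28, 2), (29, 3)],
   [(26, 3), (27, 2), (28, 3), (29, 3)], [(26, 2), (27, 3), (28, 3), (29, 3)], [(30, 1)], [(32, 1)],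
   [(31, 1)], [(33, 1)], [(35, 1)], [(34, 1)], [(36, 3), (37, 3), (38, 3), (39, 2)],
   [(36, 3), (37, 3), (38, 2), (39, 3)], [(36, 3), (37, 2), (38, 3), (39, 3)],
   [(36, 2), (37, 3), (38, 3), (39, 3)], [(40, 1)], [(42, 1)], [(41, 1)], [(43, 1)], [(45, 1)],
   [(44, 1)], [(46, 1)], [(48, 1)], [(47, 1)], [(49, 4)], [(51, 1)], [(50, 1)]]

/-- The lift of the root element 17. -/
def mat17 : List (List (Nat × Nat)) :=
  [[(17, 2)], [(2, 1)], [(1, 1)], [(4, 1)], [(3, 1)], [(6, 1)], [(5, 1)], [(7, 4)], [(36, 2)],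
   [(41, 2)], [(37, 1)], [(38, 2)], [(12, 4)], [(13, 4)], [(14, 4)], [(15, 4)],
   [(16, 2), (18, 3), (40, 4), (42, 3)], [(0, 3)], [(16, 3), (18, 2), (40, 4), (42, 3)], [(24, 1)],
   [(20, 4)], [(44, 1)], [(22, 4)], [(23, 2), (25, 3), (43, 3), (45, 3)], [(19, 1)],
   [(23, 3), (25, 2), (43, 3), (45, 3)], [(31, 2)], [(27, 4)], [(47, 2)], [(29, 4)],
   [(30, 2), (32, 3), (46, 4), (48, 3)], [(26, 3)], [(30, 3), (32, 2), (46, 4), (48, 3)],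
   [(33, 2), (35, 3), (49, 3), (51, 2)], [(34, 4)], [(33, 3), (35, 2), (49, 3), (51, 2)], [(8, 3)],
   [(10, 1)], [(11, 3)], [(39, 4)], [(16, 1), (18, 1), (40, 2), (42, 1)], [(9, 3)],
   [(16, 3), (18, 3), (40, 4), (42, 2)], [(23, 3), (25, 3), (43, 2), (45, 3)], [(21, 1)],
   [(23, 3), (25, 3), (43, 3), (45, 2)], [(30, 1), (32, 1), (46, 2), (48, 1)], [(28, 3)],
   [(30, 3), (32, 3), (46, 4), (48, 2)], [(33, 3), (35, 3), (49, 2), (51, 2)], [(50, 4)],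
   [(33, 2), (35, 2), (49, 2), (51, 2)]]

/-- The lift of the root element 19. -/
def mat19 : List (List (Nat × Nat)) :=
  [[(0, 1)], [(1, 1)], [(2, 1)], [(3, 1)], [(4, 1)], [(6, 1)], [(5, 1)], [(20, 2)], [(8, 1)],
   [(9, 1)], [(10, 1)], [(38, 2)], [(14, 2)], [(22, 2)], [(12, 3)], [(39, 2)],
   [(16, 3), (23, 3), (40, 4), (43, 2)], [(17, 1)], [(18, 3), (25, 3), (42, 3), (45, 2)], [(19, 1)],
   [(7, 3)], [(21, 1)], [(13, 3)], [(16, 3), (23, 3), (40, 1), (43, 3)], [(24, 1)],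
   [(18, 3), (25, 3), (42, 2), (45, 3)], [(31, 2)], [(34, 2)], [(47, 2)], [(50, 2)],
   [(32, 3), (35, 3), (48, 3), (51, 3)], [(26, 3)], [(30, 3), (33, 3), (46, 4), (49, 2)],
   [(32, 3), (35, 3), (48, 2), (51, 2)], [(27, 3)], [(30, 3), (33, 3), (46, 1), (49, 3)], [(36, 1)],
   [(37, 1)], [(11, 3)], [(15, 3)], [(16, 1), (23, 4), (40, 3), (43, 1)], [(41, 1)],
   [(18, 3), (25, 2), (42, 3), (45, 3)], [(16, 2), (23, 3), (40, 4), (43, 3)], [(44, 1)],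
   [(18, 2), (25, 3), (42, 3), (45, 3)], [(32, 1), (35, 4), (48, 1), (51, 4)], [(28, 3)],
   [(30, 3), (33, 2), (46, 4), (49, 3)], [(32, 2), (35, 3), (48, 3), (51, 2)], [(29, 3)],
   [(30, 3), (33, 2), (46, 1), (49, 2)]]

/-- The lift of the root element 20. -/
def mat20 : List (List (Nat × Nat)) :=
  [[(0, 1)], [(1, 1)], [(2, 1)], [(4, 1)], [(3, 1)], [(5, 1)], [(6, 1)], [(27, 1)], [(8, 1)],
   [(9, 1)], [(37, 1)], [(11, 1)], [(15, 1)], [(29, 1)], [(39, 1)], [(12, 1)],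
   [(16, 3), (30, 3), (40, 4), (46, 1)], [(17, 1)], [(18, 3), (32, 3), (42, 3), (48, 2)], [(24, 1)],
   [(34, 1)], [(44, 1)], [(50, 1)], [(25, 3), (35, 3), (45, 3), (51, 3)], [(19, 1)],
   [(23, 3), (33, 3), (43, 3), (49, 2)], [(26, 1)], [(7, 1)], [(28, 1)], [(13, 1)],
   [(16, 3), (30, 3), (40, 1), (46, 4)], [(31, 1)], [(18, 3), (32, 3), (42, 2), (48, 3)],
   [(25, 3), (35, 3), (45, 2), (51, 2)], [(20, 1)], [(23, 3), (33, 3), (43, 2), (49, 3)], [(36, 1)],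
   [(10, 1)], [(38, 1)], [(14, 1)], [(16, 1), (30, 4), (40, 3), (46, 3)], [(41, 1)],
   [(18, 3), (32, 2), (42, 3), (48, 3)], [(25, 3), (35, 2), (45, 3), (51, 2)], [(21, 1)],
   [(23, 3), (33, 2), (43, 3), (49, 3)], [(16, 4), (30, 1), (40, 3), (46, 3)], [(47, 1)],
   [(18, 2), (32, 3), (42, 3), (48, 3)], [(25, 2), (35, 3), (45, 3), (51, 2)], [(22, 1)],
   [(23, 3), (33, 2), (43, 2), (49, 2)]]

/-- The lift of the root element 21. -/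
def mat21 : List (List (Nat × Nat)) :=
  [[(3, 4)], [(19, 3)], [(4, 1)], [(0, 4)], [(2, 1)], [(7, 4)], [(20, 3)], [(5, 4)], [(9, 1)],
   [(8, 1)], [(21, 1)], [(11, 4)], [(13, 1)], [(12, 1)], [(22, 1)], [(15, 4)], [(23, 1)], [(24, 1)],
   [(25, 1)], [(1, 2)], [(6, 2)], [(10, 1)], [(14, 1)], [(16, 1)], [(17, 1)], [(18, 1)], [(27, 1)],
   [(26, 1)], [(28, 4)], [(29, 4)], [(33, 1)], [(34, 1)], [(35, 1)], [(30, 1)], [(31, 1)], [(32, 1)],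
   [(36, 4)], [(37, 4)], [(38, 4)], [(39, 4)], [(40, 4)], [(41, 4)], [(42, 4)], [(43, 4)], [(44, 4)],
   [(45, 4)], [(46, 4)], [(47, 4)], [(48, 4)], [(49, 4)], [(50, 4)], [(51, 4)]]

/-- The lift of the root element 22. -/
def mat22 : List (List (Nat × Nat)) :=
  [[(19, 2)], [(3, 1)], [(4, 1)], [(1, 1)], [(2, 1)], [(6, 1)], [(5, 1)], [(20, 2)], [(10, 2)],
   [(21, 2)], [(8, 3)], [(11, 4)], [(14, 2)], [(22, 2)], [(12, 3)], [(15, 4)], [(23, 1)], [(24, 1)],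
   [(25, 1)], [(0, 3)], [(7, 3)], [(9, 3)], [(13, 3)], [(16, 1)], [(17, 1)], [(18, 1)], [(26, 4)],
   [(27, 4)], [(28, 4)], [(29, 4)], [(30, 4)], [(31, 4)], [(32, 4)], [(33, 4)], [(34, 4)], [(35, 4)],
   [(37, 1)], [(36, 1)], [(38, 4)], [(39, 4)], [(43, 2)], [(44, 1)], [(45, 1)], [(40, 3)], [(41, 1)],
   [(42, 1)], [(46, 4)], [(47, 4)], [(48, 4)], [(49, 4)], [(50, 4)], [(51, 4)]]

/-- The lift of the root element 23. -/
def mat23 : List (List (Nat × Nat)) :=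
  [[(5, 1)], [(6, 1)], [(26, 1)], [(7, 1)], [(27, 1)], [(0, 1)], [(1, 1)], [(3, 1)], [(9, 1)],
   [(8, 1)], [(10, 4)], [(28, 1)], [(13, 1)], [(12, 1)], [(14, 4)], [(29, 1)], [(30, 1)], [(31, 1)],
   [(32, 1)], [(20, 1)], [(19, 1)], [(21, 4)], [(22, 4)], [(33, 1)], [(34, 1)], [(35, 1)], [(2, 1)],
   [(4, 1)], [(11, 1)], [(15, 1)], [(16, 1)], [(17, 1)], [(18, 1)], [(23, 1)], [(24, 1)], [(25, 1)],
   [(36, 4)], [(37, 4)], [(38, 4)], [(39, 4)], [(40, 4)], [(41, 4)], [(42, 4)], [(43, 4)], [(44, 4)],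
   [(45, 4)], [(46, 4)], [(47, 4)], [(48, 4)], [(49, 4)], [(50, 4)], [(51, 4)]]

/-- The lift of the root element 24. -/
def mat24 : List (List (Nat × Nat)) :=
  [[(9, 1)], [(8, 1)], [(36, 2)], [(10, 2)], [(37, 2)], [(6, 1)], [(5, 1)], [(7, 4)], [(1, 1)],
   [(0, 1)], [(3, 3)], [(38, 2)], [(14, 2)], [(13, 4)], [(12, 3)], [(39, 2)], [(40, 3)], [(41, 1)],
   [(42, 1)], [(21, 1)], [(20, 4)], [(19, 1)], [(22, 4)], [(43, 1)], [(44, 1)], [(45, 1)], [(26, 4)],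
   [(27, 4)], [(28, 4)], [(29, 4)], [(30, 4)], [(31, 4)], [(32, 4)], [(33, 4)], [(34, 4)], [(35, 4)],
   [(2, 3)], [(4, 3)], [(11, 3)], [(15, 3)], [(16, 2)], [(17, 1)], [(18, 1)], [(23, 1)], [(24, 1)],
   [(25, 1)], [(46, 4)], [(47, 4)], [(48, 4)], [(49, 4)], [(50, 4)], [(51, 4)]]

/-- The lift of the root element 25. -/
def mat25 : List (List (Nat × Nat)) :=
  [[(26, 1)], [(6, 1)], [(5, 1)], [(4, 1)], [(3, 1)], [(2, 1)], [(1, 1)], [(27, 1)], [(11, 1)],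
   [(28, 1)], [(10, 4)], [(8, 1)], [(15, 1)], [(29, 1)], [(14, 4)], [(12, 1)], [(30, 1)], [(31, 1)],
   [(32, 1)], [(19, 4)], [(20, 4)], [(21, 4)], [(22, 4)], [(23, 4)], [(24, 4)], [(25, 4)], [(0, 1)],
   [(7, 1)], [(9, 1)], [(13, 1)], [(16, 1)], [(17, 1)], [(18, 1)], [(33, 4)], [(34, 4)], [(35, 4)],
   [(38, 1)], [(37, 4)], [(36, 1)], [(39, 4)], [(46, 1)], [(47, 1)], [(48, 1)], [(43, 4)], [(44, 4)],
   [(45, 4)], [(40, 1)], [(41, 1)], [(42, 1)], [(49, 4)], [(50, 4)], [(51, 4)]]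

/-- The lift of the root element 26. -/
def mat26 : List (List (Nat × Nat)) :=
  [[(9, 1)], [(36, 3)], [(8, 4)], [(4, 1)], [(3, 1)], [(11, 4)], [(38, 3)], [(7, 4)], [(2, 4)],
   [(0, 1)], [(37, 1)], [(5, 4)], [(15, 1)], [(13, 4)], [(39, 1)], [(12, 1)], [(40, 3)], [(41, 1)],
   [(42, 1)], [(19, 4)], [(20, 4)], [(21, 4)], [(22, 4)], [(23, 4)], [(24, 4)], [(25, 4)], [(28, 1)],
   [(27, 4)], [(26, 1)], [(29, 4)], [(46, 3)], [(47, 1)], [(48, 1)], [(33, 4)], [(34, 4)], [(35, 4)],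
   [(1, 2)], [(10, 1)], [(6, 2)], [(14, 1)], [(16, 2)], [(17, 1)], [(18, 1)], [(43, 4)], [(44, 4)],
   [(45, 4)], [(30, 2)], [(31, 1)], [(32, 1)], [(49, 4)], [(50, 4)], [(51, 4)]]

/-- The lift of the root element 27. -/
def mat27 : List (List (Nat × Nat)) :=
  [[(0, 1)], [(1, 1)], [(4, 1)], [(3, 1)], [(2, 1)], [(5, 1)], [(6, 1)], [(7, 1)], [(8, 1)],
   [(9, 1)], [(10, 1)], [(15, 1)], [(12, 1)], [(13, 1)], [(14, 1)], [(11, 1)], [(16, 1)], [(24, 1)],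
   [(25, 1)], [(19, 1)], [(20, 1)], [(21, 1)], [(22, 1)], [(23, 1)], [(17, 1)], [(18, 1)], [(27, 1)],
   [(26, 1)], [(29, 1)], [(28, 1)], [(30, 1)], [(34, 1)], [(35, 1)], [(33, 1)], [(31, 1)], [(32, 1)],
   [(37, 1)], [(36, 1)], [(39, 1)], [(38, 1)], [(40, 1)], [(44, 1)], [(45, 1)], [(43, 1)], [(41, 1)],
   [(42, 1)], [(46, 4)], [(50, 1)], [(51, 1)], [(49, 4)], [(47, 1)], [(48, 1)]]

/-- The lift of the root element 28. -/
def mat28 : List (List (Nat × Nat)) :=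
  [[(0, 1)], [(6, 1)], [(2, 1)], [(3, 1)], [(4, 1)], [(5, 1)], [(1, 1)], [(7, 1)], [(8, 1)],
   [(9, 1)], [(14, 1)], [(11, 1)], [(12, 1)], [(13, 1)], [(10, 1)], [(15, 1)], [(16, 1)], [(31, 1)],
   [(32, 1)], [(20, 1)], [(19, 1)], [(22, 1)], [(21, 1)], [(23, 1)], [(34, 1)], [(35, 1)], [(26, 1)],
   [(27, 1)], [(28, 1)], [(29, 1)], [(30, 1)], [(17, 1)], [(18, 1)], [(33, 1)], [(24, 1)], [(25, 1)],
   [(38, 1)], [(39, 1)], [(36, 1)], [(37, 1)], [(40, 1)], [(47, 1)], [(48, 1)], [(43, 4)], [(50, 1)],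
   [(51, 1)], [(46, 1)], [(41, 1)], [(42, 1)], [(49, 4)], [(44, 1)], [(45, 1)]]

/-- The lift of the root element 30. -/
def mat30 : List (List (Nat × Nat)) :=
  [[(7, 1)], [(6, 1)], [(4, 1)], [(5, 1)], [(2, 1)], [(3, 1)], [(1, 1)], [(0, 1)], [(12, 1)],
   [(13, 1)], [(14, 1)], [(15, 1)], [(8, 1)], [(9, 1)], [(10, 1)], [(11, 1)], [(16, 1)], [(17, 4)],
   [(18, 4)], [(20, 1)], [(19, 1)], [(22, 1)], [(21, 1)], [(23, 1)], [(24, 4)], [(25, 4)], [(27, 1)],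
   [(26, 1)], [(29, 1)], [(28, 1)], [(30, 1)], [(31, 4)], [(32, 4)], [(33, 1)], [(34, 4)], [(35, 4)],
   [(36, 4)], [(37, 4)], [(38, 4)], [(39, 4)], [(40, 4)], [(41, 4)], [(42, 4)], [(43, 4)], [(44, 4)],
   [(45, 4)], [(46, 4)], [(47, 4)], [(48, 4)], [(49, 4)], [(50, 4)], [(51, 4)]]

/-- The lift of the root element 33. -/
def mat33 : List (List (Nat × Nat)) :=
  [[(0, 1)], [(1, 1)], [(2, 1)], [(3, 1)], [(4, 1)], [(5, 1)], [(6, 1)], [(7, 1)], [(8, 1)],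
   [(9, 1)], [(10, 1)], [(11, 1)], [(12, 4)], [(13, 4)], [(14, 4)], [(15, 4)], [(18, 1)], [(17, 1)],
   [(16, 1)], [(19, 1)], [(20, 1)], [(21, 1)], [(22, 4)], [(25, 1)], [(24, 1)], [(23, 1)], [(26, 1)],
   [(27, 1)], [(28, 1)], [(29, 4)], [(32, 1)], [(31, 1)], [(30, 1)], [(35, 1)], [(34, 1)], [(33, 1)],
   [(36, 1)], [(37, 1)], [(38, 1)], [(39, 4)], [(42, 2)], [(41, 1)], [(40, 3)], [(45, 1)], [(44, 1)],
   [(43, 1)], [(48, 2)], [(47, 1)], [(46, 3)], [(51, 4)], [(50, 4)], [(49, 4)]]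

/-- The lift of the root element 34. -/
def mat34 : List (List (Nat × Nat)) :=
  [[(0, 1)], [(1, 1)], [(2, 1)], [(3, 1)], [(4, 1)], [(5, 1)], [(6, 1)], [(7, 1)], [(8, 1)],
   [(9, 1)], [(10, 1)], [(11, 4)], [(12, 1)], [(13, 1)], [(14, 1)], [(15, 4)], [(23, 1)], [(17, 1)],
   [(25, 1)], [(19, 1)], [(20, 1)], [(21, 1)], [(22, 1)], [(16, 1)], [(24, 1)], [(18, 1)], [(26, 1)],
   [(27, 1)], [(28, 4)], [(29, 4)], [(33, 1)], [(31, 1)], [(35, 1)], [(30, 1)], [(34, 1)], [(32, 1)],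
   [(36, 1)], [(37, 1)], [(38, 4)], [(39, 4)], [(43, 2)], [(41, 1)], [(45, 1)], [(40, 3)], [(44, 1)],
   [(42, 1)], [(49, 2)], [(47, 4)], [(51, 4)], [(46, 3)], [(50, 4)], [(48, 4)]]

/-- The roots of the rank two subsystems with their lifts. -/
def mats : List (Nat × List (List (Nat × Nat))) :=
  [(13, mat13), (14, mat14), (17, mat17), (19, mat19), (20, mat20), (21, mat21), (22, mat22), (23, mat23), (24, mat24), (25, mat25), (26, mat26), (27, mat27), (28, mat28), (30, mat30), (33, mat33), (34, mat34)]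

end CfsgLib.F4TwoCover13
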